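import Groth.Prelude.Def_W4c5suslinpi1abAdj

/-!
Naturality and transposition identities for projection morphisms, exterior products and the
products of adjoint triples of monoidal functors.
-/

universe v u

open CategoryTheory MonoidalCategory Functor.LaxMonoidal Functor.OplaxMonoidal W4c5suslinpi1ab

namespace GrothLib.W4c5Adj

variable {C : Type u} [Category.{v} C] [MonoidalCategory C]
variable {D : Type u} [Category.{v} D] [MonoidalCategory D]

theorem projR_natural {L : C ⥤ D} {R : D ⥤ C} (adj : L ⊣ R) [R.LaxMonoidal] {A A' : D} {B B' : C}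
    (a : A ⟶ A') (b : B ⟶ B') :
    (R.map a ⊗ₘ b) ≫ projR adj A' B' = projR adj A B ≫ R.map (a ⊗ₘ L.map b) := by
  have h : b ≫ adj.unit.app B' = adj.unit.app B ≫ R.map (L.map b) := adj.unit.naturality b
  simp only [projR, Category.assoc, ← μ_natural]
  simp only [← id_tensorHom, tensorHom_comp_tensorHom_assoc, h, Category.comp_id, Category.id_comp]

theorem projL_natural {L : C ⥤ D} {R : D ⥤ C} (adj : L ⊣ R) [R.LaxMonoidal] {A A' : C} {B B' : D}
    (a : A ⟶ A') (b : B ⟶ B') :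
    (a ⊗ₘ R.map b) ≫ projL adj A' B' = projL adj A B ≫ R.map (L.map a ⊗ₘ b) := by
  have h : a ≫ adj.unit.app A' = adj.unit.app A ≫ R.map (L.map a) := adj.unit.naturality a
  simp only [projL, Category.assoc, ← μ_natural]
  simp only [← tensorHom_id, tensorHom_comp_tensorHom_assoc, h, Category.comp_id, Category.id_comp]

theorem homEquiv_symm_projR {L : C ⥤ D} {R : D ⥤ C} (adj : L ⊣ R) [L.OplaxMonoidal] [R.LaxMonoidal]
    [adj.IsMonoidal] (A : D) (B : C) :
    (adj.homEquiv _ _).symm (projR adj A B) = δ L (R.obj A) B ≫ (adj.counit.app A ▷ L.obj B) := by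
  rw [Adjunction.homEquiv_counit, projR, Functor.map_comp, Category.assoc,
    adj.map_μ_comp_counit_app_tensor, ← id_tensorHom]
  erw [← δ_natural_assoc]
  rw [tensorHom_comp_tensorHom, CategoryTheory.Functor.map_id, Category.id_comp,
    adj.left_triangle_components, tensorHom_id]

theorem homEquiv_symm_projL {L : C ⥤ D} {R : D ⥤ C} (adj : L ⊣ R) [L.OplaxMonoidal] [R.LaxMonoidal]
    [adj.IsMonoidal] (A : C) (B : D) :
    (adj.homEquiv _ _).symm (projL adj A B) = δ L A (R.obj B) ≫ (L.obj A ◁ adj.counit.app B) := by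
  rw [Adjunction.homEquiv_counit, projL, Functor.map_comp, Category.assoc,
    adj.map_μ_comp_counit_app_tensor, ← tensorHom_id]
  erw [← δ_natural_assoc]
  rw [tensorHom_comp_tensorHom, CategoryTheory.Functor.map_id, Category.id_comp]
  erw [adj.left_triangle_components, id_tensorHom]
  rfl

theorem projR_map_cupShriek {L : C ⥤ D} {R : D ⥤ C} {S : C ⥤ D} (adj : L ⊣ R) (adj' : R ⊣ S)
    [R.LaxMonoidal] [∀ (A : D) (B : C), IsIso (projR adj A B)] (A B : C) :
    projR adj (S.obj A) B ≫ R.map (cupShriek adj adj' A B) ≫ adj'.counit.app (A ⊗ B) =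
      adj'.counit.app A ▷ B := by
  have h : R.map (cupShriek adj adj' A B) ≫ adj'.counit.app (A ⊗ B) =
      inv (projR adj (S.obj A) B) ≫ (adj'.counit.app A ▷ B) :=
    (adj'.homEquiv_counit _ _ _).symm.trans (Equiv.symm_apply_apply _ _)
  rw [h, IsIso.hom_inv_id_assoc]

theorem cupShriek_natural {L : C ⥤ D} {R : D ⥤ C} {S : C ⥤ D} (adj : L ⊣ R) (adj' : R ⊣ S)
    [R.LaxMonoidal] [∀ (A : D) (B : C), IsIso (projR adj A B)] (A : C) {B B' : C} (b : B ⟶ B') :
    cupShriek adj adj' A B ≫ S.map (A ◁ b) =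
      (S.obj A ◁ L.map b) ≫ cupShriek adj adj' A B' := by
  apply (adj'.homEquiv _ _).symm.injective
  rw [Adjunction.homEquiv_naturality_right_symm, Adjunction.homEquiv_naturality_left_symm, cupShriek,
    cupShriek, Equiv.symm_apply_apply, Equiv.symm_apply_apply, ← cancel_epi (projR adj (S.obj A) B)]
  simp only [Category.assoc, IsIso.hom_inv_id_assoc]
  have h := projR_natural adj (𝟙 (S.obj A)) b
  rw [CategoryTheory.Functor.map_id, id_tensorHom, id_tensorHom] at h
  rw [← reassoc_of% h, IsIso.hom_inv_id_assoc, whisker_exchange]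
  rfl

section Square

variable {S₀ : Type u} [Category.{v} S₀] [MonoidalCategory S₀]
variable {Y₁ : Type u} [Category.{v} Y₁] [MonoidalCategory Y₁]
variable {Y₂ : Type u} [Category.{v} Y₂] [MonoidalCategory Y₂]
variable {X : Type u} [Category.{v} X] [MonoidalCategory X]
variable {fL : S₀ ⥤ Y₁} {fR : Y₁ ⥤ S₀} (adjf : fL ⊣ fR) [fR.LaxMonoidal]
  {gR : Y₂ ⥤ S₀} {pL : Y₁ ⥤ X} {pR : X ⥤ Y₁} (adjp : pL ⊣ pR) [pR.LaxMonoidal]
  {qL : Y₂ ⥤ X} {qR : X ⥤ Y₂} (adjq : qL ⊣ qR) (ν : qR ⋙ gR ⟶ pR ⋙ fR)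

theorem extProd_natural {A A' : Y₁} {B B' : Y₂} (a : A ⟶ A') (b : B ⟶ B') :
    (fR.map a ⊗ₘ gR.map b) ≫ extProd adjf adjp adjq ν A' B' =
      extProd adjf adjp adjq ν A B ≫ fR.map (pR.map (pL.map a ⊗ₘ qL.map b)) := by
  have hbc := (bcMor adjf adjq ν).naturality b
  simp only [Functor.comp_map] at hbc
  rw [extProd, extProd, ← Category.assoc, projR_natural, Category.assoc, Category.assoc, Category.assoc,
    ← fR.map_comp, ← fR.map_comp, ← fR.map_comp, ← fR.map_comp]
  congr 2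
  rw [← projL_natural, ← id_tensorHom, ← id_tensorHom, tensorHom_comp_tensorHom_assoc,
    tensorHom_comp_tensorHom_assoc, hbc, Category.comp_id, Category.id_comp]

instance isIso_extProd [∀ (A : Y₁) (B : S₀), IsIso (projR adjf A B)]
    [∀ (A : Y₁) (B : X), IsIso (projL adjp A B)] [∀ B : Y₂, IsIso ((bcMor adjf adjq ν).app B)]
    (A : Y₁) (B : Y₂) : IsIso (extProd adjf adjp adjq ν A B) := by
  unfold extProd; infer_instance

theorem extProd_map_prodShriek {fS : S₀ ⥤ Y₁} (adjf' : fR ⊣ fS) {gS : S₀ ⥤ Y₂} (adjg' : gR ⊣ gS)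
    {pS : Y₁ ⥤ X} (adjp' : pR ⊣ pS)
    [∀ (A : Y₁) (B : S₀), IsIso (projR adjf A B)] [∀ (A : Y₁) (B : X), IsIso (projL adjp A B)]
    [∀ B : Y₂, IsIso ((bcMor adjf adjq ν).app B)] (A B : S₀) :
    extProd adjf adjp adjq ν (fS.obj A) (gS.obj B) ≫
      fR.map (pR.map (prodShriek adjf adjf' adjg' adjp adjp' adjq ν A B)) ≫
        fR.map (adjp'.counit.app (fS.obj (A ⊗ B))) =
      projR adjf (fS.obj A) (gR.obj (gS.obj B)) ≫
        fR.map (cupShriek adjf adjf' A (gR.obj (gS.obj B)) ≫ fS.map (A ◁ adjg'.counit.app B)) := by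
  have h : pR.map (prodShriek adjf adjf' adjg' adjp adjp' adjq ν A B) ≫
      adjp'.counit.app (fS.obj (A ⊗ B)) = inv (projL adjp (fS.obj A) (qL.obj (gS.obj B))) ≫
        (fS.obj A ◁ inv ((bcMor adjf adjq ν).app (gS.obj B))) ≫
        cupShriek adjf adjf' A (gR.obj (gS.obj B)) ≫ fS.map (A ◁ adjg'.counit.app B) := by
    exact (adjp'.homEquiv_counit _ _ _).symm.trans (Equiv.symm_apply_apply _ _)
  rw [← fR.map_comp, h, extProd, Category.assoc, Category.assoc, ← fR.map_comp, ← fR.map_comp]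
  congr 2
  simp

theorem extProd_transpose_prodShriek {fS : S₀ ⥤ Y₁} (adjf' : fR ⊣ fS) {gS : S₀ ⥤ Y₂}
    (adjg' : gR ⊣ gS) {pS : Y₁ ⥤ X} (adjp' : pR ⊣ pS)
    [∀ (A : Y₁) (B : S₀), IsIso (projR adjf A B)] [∀ (A : Y₁) (B : X), IsIso (projL adjp A B)]
    [∀ B : Y₂, IsIso ((bcMor adjf adjq ν).app B)] (A B : S₀) :
    extProd adjf adjp adjq ν (fS.obj A) (gS.obj B) ≫
      ((adjp'.comp adjf').homEquiv _ _).symm (prodShriek adjf adjf' adjg' adjp adjp' adjq ν A B) =
      (adjf'.counit.app A ⊗ₘ adjg'.counit.app B) := by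
  rw [Adjunction.homEquiv_counit]
  simp only [Functor.comp_map, Adjunction.comp_counit_app]
  rw [reassoc_of% (extProd_map_prodShriek adjf adjp adjq ν adjf' adjg' adjp' A B), Functor.map_comp,
    Category.assoc]
  have hn : fR.map (fS.map (A ◁ adjg'.counit.app B)) ≫ adjf'.counit.app (A ⊗ B) =
      adjf'.counit.app (A ⊗ gR.obj (gS.obj B)) ≫ (A ◁ adjg'.counit.app B) :=
    adjf'.counit.naturality _
  rw [hn, reassoc_of% (projR_map_cupShriek adjf adjf' A (gR.obj (gS.obj B))), ← tensorHom_def]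

end Square

end GrothLib.W4c5Adj
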